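import Groth.Agent.RelFP.Ring
import Groth.Agent.QCohBase.Localization
import Groth.Prelude.Def_Flatn
import Mathlib.AlgebraicGeometry.Morphisms.FinitePresentation
import Mathlib.AlgebraicGeometry.Morphisms.FiniteType

/-!
# Relative finite presentation of quasi-coherent modules: locality
-/

set_option autoImplicit false
set_option linter.style.haveILetI false

noncomputable section

universe u

open CategoryTheory Limits AlgebraicGeometry Opposite TopologicalSpace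

namespace Groth.Agent.RelFP

open Groth.Agent.QCohBase

variable {X Y S : Scheme.{u}}

/-- `Flatn.RelFPOn` with bare opens. -/
def RelOn (f : X ⟶ S) (F : X.Modules) (U : X.Opens) (V : S.Opens) (h : U ≤ f ⁻¹ᵁ V) : Prop :=
  letI := (f.appLE V U h).hom.toAlgebra
  FlatCA.RelFinitePresentation Γ(S, V) Γ(X, U) Γ(F, U)

lemma relOn_iff (f : X ⟶ S) (F : X.Modules) (U : X.affineOpens) (V : S.affineOpens)
    (h : (U : X.Opens) ≤ f ⁻¹ᵁ (V : S.Opens)) : Flatn.RelFPOn f F U V h ↔ RelOn f F U V h :=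
  Iff.rfl

lemma algebra_finiteType_appLE (f : X ⟶ S) [LocallyOfFiniteType f] {U : X.Opens}
    (hU : IsAffineOpen U) {V : S.Opens} (hV : IsAffineOpen V) (h : U ≤ f ⁻¹ᵁ V) :
    (f.appLE V U h).hom.FiniteType :=
  HasRingHomProperty.appLE @LocallyOfFiniteType f inferInstance ⟨V, hV⟩ ⟨U, hU⟩ h

section SectionsLoc

variable (M : X.Modules) [M.IsQuasicoherent] {U W : X.Opens}

/-- Sections on a smaller open, as a module over sections on a bigger one. -/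
@[reducible]
def resModule (hWU : W ≤ U) : Module Γ(X, U) Γ(M, W) := Module.compHom _ (ores hWU)

/-- Restriction of sections, as a linear map. -/
def mresₗ (hWU : W ≤ U) :
    letI := resModule M hWU
    Γ(M, U) →ₗ[Γ(X, U)] Γ(M, W) :=
  letI := resModule M hWU
  { toFun := mres M hWU
    map_add' := map_add _
    map_smul' := fun r s ↦ mres_smul M hWU r s }

lemma isLocalizedModule_mresₗ (hU : IsAffineOpen U) (g : Γ(X, U)) (hW : W = X.basicOpen g)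
    (hWU : W ≤ U) :
    letI := resModule M hWU
    IsLocalizedModule (Submonoid.powers g) (mresₗ M hWU) := by
  letI := resModule M hWU
  have hu : IsUnit (ores hWU g) := by
    subst hW
    exact X.toRingedSpace.isUnit_res_basicOpen g
  refine ⟨?_, fun x ↦ ?_, fun {a b} hab ↦ ?_⟩
  · rintro ⟨_, k, rfl⟩
    rw [Module.End.isUnit_iff]
    obtain ⟨v, hv⟩ := hu.pow k
    have hsm : ∀ x : Γ(M, W), (g ^ k) • x = v.1 • x := fun x ↦ by
      change ores hWU (g ^ k) • x = v.1 • x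
      rw [map_pow, hv]
    constructor
    · intro a b hab
      have h1 : v.1 • a = v.1 • b := (hsm a).symm.trans (Eq.trans hab (hsm b))
      have h2 := congrArg (fun z ↦ v⁻¹.1 • z) h1
      simpa [← mul_smul] using h2
    · intro b
      refine ⟨v⁻¹.1 • b, (hsm _).trans ?_⟩
      change v.1 • (v⁻¹.1 • b) = b
      rw [← mul_smul, Units.mul_inv, one_smul]
  · obtain ⟨n, y, hy⟩ := exists_pow_smul_eq_mres M hU g hW hWU x
    refine ⟨⟨y, ⟨g ^ n, n, rfl⟩⟩, ?_⟩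
    change ores hWU (g ^ n) • x = mres M hWU y
    rw [map_pow, hy]
  · have h0 : mres M hWU (a - b) = 0 := by
      rw [map_sub]
      exact sub_eq_zero.mpr hab
    obtain ⟨n, hn⟩ := exists_pow_smul_eq_zero M hU g hW hWU _ h0
    refine ⟨⟨g ^ n, n, rfl⟩, ?_⟩
    change g ^ n • a = g ^ n • b
    rwa [← sub_eq_zero, ← smul_sub]

end SectionsLoc

section Locality

variable (f : X ⟶ S) (F : X.Modules)

lemma relOn_res [F.IsQuasicoherent] {U W : X.Opens} (hU : IsAffineOpen U) (g : Γ(X, U))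
    (hW : W = X.basicOpen g) {V : S.Opens} (h : U ≤ f ⁻¹ᵁ V) (hW' : W ≤ f ⁻¹ᵁ V)
    (H : RelOn f F U V h) : RelOn f F W V hW' := by
  have hWU : W ≤ U := hW.trans_le (X.basicOpen_le g)
  letI := (f.appLE V U h).hom.toAlgebra
  letI := (f.appLE V W hW').hom.toAlgebra
  letI : Algebra Γ(X, U) Γ(X, W) := (ores hWU).toAlgebra
  haveI : IsScalarTower Γ(S, V) Γ(X, U) Γ(X, W) := .of_algebraMap_eq fun r ↦
    congr($((f.appLE_map h (homOfLE hWU).op).symm).hom r)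
  haveI : IsLocalization.Away g Γ(X, W) := hU.isLocalization_of_eq_basicOpen g (homOfLE hWU) hW
  haveI : Algebra.FinitePresentation Γ(X, U) Γ(X, W) := IsLocalization.Away.finitePresentation g
  letI := resModule F hWU
  haveI : IsScalarTower Γ(X, U) Γ(X, W) Γ(F, W) := .of_algebraMap_smul fun _ _ ↦ rfl
  haveI := isLocalizedModule_mresₗ F hU g hW hWU
  exact rel_of_linearEquiv
    (IsLocalizedModule.isBaseChange (Submonoid.powers g) Γ(X, W) (mresₗ F hWU)).equiv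
    (rel_tensor_fp (A' := Γ(X, W)) H)

lemma relOn_of_cover [F.IsQuasicoherent] [LocallyOfFiniteType f] {U : X.Opens}
    (hU : IsAffineOpen U) {V : S.Opens} (hV : IsAffineOpen V) (h : U ≤ f ⁻¹ᵁ V)
    (hcov : ∀ x ∈ U, ∃ (g : Γ(X, U)) (W : X.Opens) (_ : W = X.basicOpen g) (_ : x ∈ W)
      (hW' : W ≤ f ⁻¹ᵁ V), RelOn f F W V hW') :
    RelOn f F U V h := by
  let W : Γ(X, U) → X.Opens := fun g ↦ X.basicOpen g
  have hle : ∀ g, W g ≤ U := fun g ↦ X.basicOpen_le g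
  let s : Set Γ(X, U) := {g | RelOn f F (W g) V ((hle g).trans h)}
  have hs : Ideal.span s = ⊤ := by
    rw [← hU.self_le_iSup_basicOpen_iff]
    intro x hx
    obtain ⟨g, W', hW'eq, hxW, hW', hrel⟩ := hcov x hx
    subst hW'eq
    exact Opens.mem_iSup.mpr ⟨⟨g, hrel⟩, hxW⟩
  letI := (f.appLE V U h).hom.toAlgebra
  haveI : Algebra.FiniteType Γ(S, V) Γ(X, U) := algebra_finiteType_appLE f hU hV h
  letI : ∀ g : s, Algebra Γ(X, U) Γ(X, W g.1) := fun g ↦ (ores (hle g.1)).toAlgebra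
  letI : ∀ g : s, Algebra Γ(S, V) Γ(X, W g.1) := fun g ↦
    (f.appLE V (W g.1) ((hle g.1).trans h)).hom.toAlgebra
  haveI : ∀ g : s, IsScalarTower Γ(S, V) Γ(X, U) Γ(X, W g.1) := fun g ↦ .of_algebraMap_eq fun r ↦
    congr($((f.appLE_map h (homOfLE (hle g.1)).op).symm).hom r)
  haveI : ∀ g : s, IsLocalization.Away g.1 Γ(X, W g.1) := fun g ↦ hU.isLocalization_basicOpen g.1
  letI : ∀ g : s, Module Γ(X, U) Γ(F, W g.1) := fun g ↦ resModule F (hle g.1)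
  haveI : ∀ g : s, IsScalarTower Γ(X, U) Γ(X, W g.1) Γ(F, W g.1) := fun g ↦
    .of_algebraMap_smul fun _ _ ↦ rfl
  haveI : ∀ g : s, IsLocalizedModule (Submonoid.powers g.1) (mresₗ F (hle g.1)) :=
    fun g ↦ isLocalizedModule_mresₗ F hU g.1 rfl (hle g.1)
  exact rel_of_span' (R := Γ(S, V)) (A := Γ(X, U)) s hs (fun g ↦ Γ(X, W g.1))
    (fun g ↦ Γ(F, W g.1)) (fun g ↦ mresₗ F (hle g.1)) fun g ↦ g.2

/-- Shrinking the base to a basic open. -/
lemma relOn_base_res {U : X.Opens} {V V' : S.Opens} (hV : IsAffineOpen V) (b : Γ(S, V))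
    (hb : V' = S.basicOpen b) (h : U ≤ f ⁻¹ᵁ V) (h' : U ≤ f ⁻¹ᵁ V')
    (H : RelOn f F U V h) : RelOn f F U V' h' := by
  have hle : V' ≤ V := hb.trans_le (S.basicOpen_le b)
  letI := (f.appLE V U h).hom.toAlgebra
  letI := (f.appLE V' U h').hom.toAlgebra
  letI : Algebra Γ(S, V) Γ(S, V') := (ores hle).toAlgebra
  haveI : IsScalarTower Γ(S, V) Γ(S, V') Γ(X, U) := .of_algebraMap_eq fun r ↦
    congr($((f.map_appLE h' (homOfLE hle).op).symm).hom r)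
  haveI : IsLocalization.Away b Γ(S, V') := hV.isLocalization_of_eq_basicOpen b (homOfLE hle) hb
  haveI : Algebra.FinitePresentation Γ(S, V) Γ(S, V') := IsLocalization.Away.finitePresentation b
  exact rel_up H

/-- Enlarging the base from a basic open. -/
lemma relOn_base_of_res {U : X.Opens} {V V' : S.Opens} (hV : IsAffineOpen V) (b : Γ(S, V))
    (hb : V' = S.basicOpen b) (h : U ≤ f ⁻¹ᵁ V) (h' : U ≤ f ⁻¹ᵁ V')
    (H : RelOn f F U V' h') : RelOn f F U V h := by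
  have hle : V' ≤ V := hb.trans_le (S.basicOpen_le b)
  letI := (f.appLE V U h).hom.toAlgebra
  letI := (f.appLE V' U h').hom.toAlgebra
  letI : Algebra Γ(S, V) Γ(S, V') := (ores hle).toAlgebra
  haveI : IsScalarTower Γ(S, V) Γ(S, V') Γ(X, U) := .of_algebraMap_eq fun r ↦
    congr($((f.map_appLE h' (homOfLE hle).op).symm).hom r)
  haveI : IsLocalization.Away b Γ(S, V') := hV.isLocalization_of_eq_basicOpen b (homOfLE hle) hb
  haveI : Algebra.FinitePresentation Γ(S, V) Γ(S, V') := IsLocalization.Away.finitePresentation b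
  exact rel_trans H

/-- Locality: if every point has some pair of affine charts on which the test holds, it holds on
every pair of affine charts. -/
theorem relOn_of_local [F.IsQuasicoherent] [LocallyOfFiniteType f]
    (H : ∀ x : X, ∃ (U₀ : X.Opens) (_ : IsAffineOpen U₀) (V₀ : S.Opens) (_ : IsAffineOpen V₀)
      (h₀ : U₀ ≤ f ⁻¹ᵁ V₀), x ∈ U₀ ∧ RelOn f F U₀ V₀ h₀)
    {U : X.Opens} (hU : IsAffineOpen U) {V : S.Opens} (hV : IsAffineOpen V) (h : U ≤ f ⁻¹ᵁ V) :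
    RelOn f F U V h := by
  refine relOn_of_cover f F hU hV h fun x hx ↦ ?_
  obtain ⟨U₀, hU₀, V₀, hV₀, h₀, hx₀, hrel⟩ := H x
  obtain ⟨b₀, b, hbb, hfx⟩ := exists_basicOpen_le_affine_inter hV₀ hV (f x) ⟨h₀ hx₀, h hx⟩
  let V₁ := S.basicOpen b₀
  let U₁ := X.basicOpen (f.appLE V₀ U₀ h₀ b₀)
  have hU₁eq : U₁ = U₀ ⊓ f ⁻¹ᵁ V₁ := Scheme.basicOpen_appLE f U₀ V₀ h₀ b₀
  have hxU₁ : x ∈ U₁ := by rw [hU₁eq]; exact ⟨hx₀, hfx⟩
  have hU₁ : IsAffineOpen U₁ := hU₀.basicOpen _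
  have h₁ : U₁ ≤ f ⁻¹ᵁ V₁ := hU₁eq.trans_le inf_le_right
  have h₁₀ : U₁ ≤ f ⁻¹ᵁ V₀ := (X.basicOpen_le _).trans h₀
  have hrel₁ : RelOn f F U₁ V₁ h₁ :=
    relOn_base_res f F hV₀ b₀ rfl h₁₀ h₁ (relOn_res f F hU₀ _ rfl h₀ h₁₀ hrel)
  obtain ⟨g, g₁, hgg, hxg⟩ := exists_basicOpen_le_affine_inter hU hU₁ x ⟨hx, hxU₁⟩
  have hg₁ : X.basicOpen g ≤ f ⁻¹ᵁ V₁ := (hgg.trans_le (X.basicOpen_le g₁)).trans h₁
  exact ⟨g, X.basicOpen g, rfl, hxg, (X.basicOpen_le g).trans h,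
    relOn_base_of_res f F hV b hbb ((X.basicOpen_le g).trans h) hg₁
      (relOn_res f F hU₁ g₁ hgg h₁ hg₁ hrel₁)⟩

lemma relOn_of_isRelFP [F.IsQuasicoherent] [LocallyOfFiniteType f] (hF : Flatn.IsRelFP f F)
    {U : X.Opens} (hU : IsAffineOpen U) {V : S.Opens} (hV : IsAffineOpen V) (h : U ≤ f ⁻¹ᵁ V) :
    RelOn f F U V h := by
  obtain ⟨𝒱, h𝒱, hall⟩ := hF
  refine relOn_of_local f F (fun x ↦ ?_) hU hV h
  obtain ⟨V₀, hV₀, hx⟩ : ∃ V₀ ∈ 𝒱, f x ∈ (V₀ : S.Opens) := by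
    have : f x ∈ (⨆ V ∈ 𝒱, (V : S.Opens)) := h𝒱.ge (Opens.mem_top _)
    simpa only [Opens.mem_iSup, exists_prop] using this
  obtain ⟨𝒰, h𝒰, hrel⟩ := hall V₀ hV₀
  obtain ⟨U₀, hU₀, hx₀⟩ : ∃ U₀ ∈ 𝒰, x ∈ (U₀ : X.Opens) := by
    have : x ∈ (⨆ U ∈ 𝒰, (U : X.Opens)) := h𝒰.ge hx
    simpa only [Opens.mem_iSup, exists_prop] using this
  have hle : (U₀ : X.Opens) ≤ f ⁻¹ᵁ (V₀ : S.Opens) :=
    (le_iSup₂_of_le U₀ hU₀ le_rfl).trans h𝒰.le
  exact ⟨U₀, U₀.2, V₀, V₀.2, hle, hx₀, hrel U₀ hU₀ hle⟩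

/-- To prove relative finite presentation, test one pair of charts around each point. -/
lemma isRelFP_of_local [F.IsQuasicoherent] [LocallyOfFiniteType f]
    (H : ∀ x : X, ∃ (U₀ : X.Opens) (_ : IsAffineOpen U₀) (V₀ : S.Opens) (_ : IsAffineOpen V₀)
      (h₀ : U₀ ≤ f ⁻¹ᵁ V₀), x ∈ U₀ ∧ RelOn f F U₀ V₀ h₀) :
    Flatn.IsRelFP f F := by
  refine ⟨Set.univ, eq_top_iff.mpr fun y _ ↦ ?_, fun V _ ↦ ?_⟩
  · obtain ⟨_, ⟨V, hV, rfl⟩, hy, -⟩ :=
      S.isBasis_affineOpens.exists_subset_of_mem_open (Set.mem_univ y) isOpen_univ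
    exact Opens.mem_iSup.mpr ⟨⟨V, hV⟩, Opens.mem_iSup.mpr ⟨trivial, hy⟩⟩
  refine ⟨{U | (U : X.Opens) ≤ f ⁻¹ᵁ (V : S.Opens)}, le_antisymm (iSup₂_le fun U hU ↦ hU)
    fun x hx ↦ ?_, fun U _ h ↦ relOn_of_local f F H U.2 V.2 h⟩
  obtain ⟨_, ⟨U, hU, rfl⟩, hxU, hle⟩ :=
    X.isBasis_affineOpens.exists_subset_of_mem_open hx (f ⁻¹ᵁ (V : S.Opens)).isOpen
  exact Opens.mem_iSup.mpr ⟨⟨U, hU⟩, Opens.mem_iSup.mpr ⟨hle, hxU⟩⟩

end Locality

/-- A morphism of modules on sections over an open, as a linear map. -/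
def appₗ {M N : X.Modules} (φ : M ⟶ N) (U : X.Opens) : Γ(M, U) →ₗ[Γ(X, U)] Γ(N, U) where
  toFun := φ.app U
  map_add' := map_add _
  map_smul' r x := Scheme.Modules.Hom.app_smul φ r x

/-- Affine charts around a point. -/
lemma exists_affine_pair (f : X ⟶ S) (x : X) : ∃ (U : X.Opens) (_ : IsAffineOpen U) (V : S.Opens)
    (_ : IsAffineOpen V) (_ : U ≤ f ⁻¹ᵁ V), x ∈ U := by
  obtain ⟨_, ⟨V, hV, rfl⟩, hfx, -⟩ :=
    S.isBasis_affineOpens.exists_subset_of_mem_open (Set.mem_univ (f x)) isOpen_univ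
  obtain ⟨_, ⟨U, hU, rfl⟩, hx, hle⟩ :=
    X.isBasis_affineOpens.exists_subset_of_mem_open (show x ∈ f ⁻¹ᵁ V from hfx) (f ⁻¹ᵁ V).isOpen
  exact ⟨U, hU, V, hV, hle, hx⟩

end Groth.Agent.RelFP
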