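import Groth.Prelude.Def_FlatCA
import Mathlib.RingTheory.LocalProperties.FinitePresentation
import Mathlib.RingTheory.Finiteness.ModuleFinitePresentation
import Mathlib.RingTheory.FinitePresentation
import Mathlib.LinearAlgebra.TensorProduct.RightExactness
import Mathlib.RingTheory.Localization.BaseChange
import Mathlib.RingTheory.IsTensorProduct
import Mathlib.RingTheory.RingHom.FinitePresentation

/-!
# Relative finite presentation of modules

`FPOn φ M`: the `A`-module `M` is finitely presented over `P` through `φ : P →+* A`.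
-/

set_option autoImplicit false
set_option linter.style.haveILetI false

universe u

open TensorProduct

namespace Groth.Agent.RelFP

section Basic

variable {P P' A : Type u} [CommRing P] [CommRing P'] [CommRing A]
  {M N : Type u} [AddCommGroup M] [Module A M] [AddCommGroup N] [Module A N]

/-- `M` is finitely presented over `P` for the structure induced by `φ`. -/
def FPOn (φ : P →+* A) (M : Type u) [AddCommGroup M] [Module A M] : Prop :=
  @Module.FinitePresentation P M _ _ (Module.compHom M φ)

lemma fpOn_iff [Algebra P A] [Module P M] [IsScalarTower P A M] :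
    FPOn (algebraMap P A) M ↔ Module.FinitePresentation P M := by
  have : (Module.compHom M (algebraMap P A) : Module P M) = ‹Module P M› :=
    Module.ext' _ _ fun r m ↦ algebraMap_smul A r m
  unfold FPOn
  rw [this]

lemma FPOn.of_linearEquiv {φ : P →+* A} (e : M ≃ₗ[A] N) (h : FPOn φ M) : FPOn φ N := by
  algebraize [φ]
  let := Module.compHom M φ
  let := Module.compHom N φ
  have : IsScalarTower P A M := .of_algebraMap_smul fun _ _ ↦ rfl
  have : IsScalarTower P A N := .of_algebraMap_smul fun _ _ ↦ rfl
  have : Module.FinitePresentation P M := h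
  exact Module.FinitePresentation.of_equiv (e.restrictScalars P)

/-- Semilinear transport. -/
lemma FPOn.of_addEquiv {A' : Type u} [CommRing A'] {M' : Type u} [AddCommGroup M'] [Module A' M']
    {φ : P →+* A} {φ' : P →+* A'} (l : M ≃+ M')
    (hl : ∀ (p : P) (m : M), l (φ p • m) = φ' p • l m) (h : FPOn φ M) : FPOn φ' M' := by
  let := Module.compHom M φ
  let := Module.compHom M' φ'
  have : Module.FinitePresentation P M := h
  exact Module.FinitePresentation.of_equiv (l.toLinearEquiv hl)

lemma FPOn.of_subsingleton (φ : P →+* A) [Subsingleton M] : FPOn φ M := by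
  let := Module.compHom M φ
  exact (inferInstance : Module.FinitePresentation P M)

lemma FPOn.finite {φ : P →+* A} (h : FPOn φ M) : Module.Finite A M := by
  algebraize [φ]
  let := Module.compHom M φ
  have : IsScalarTower P A M := .of_algebraMap_smul fun _ _ ↦ rfl
  have : Module.FinitePresentation P M := h
  exact Module.Finite.of_restrictScalars_finite P A M

/-- Finite presentation goes up along algebras of finite type. -/
lemma FPOn.of_comp (f : P →+* P') (g : P' →+* A) (hf : f.FiniteType)
    (h : FPOn (g.comp f) M) : FPOn g M := by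
  algebraize [f, g, g.comp f]
  let := Module.compHom M g
  let := Module.compHom M (g.comp f)
  have : IsScalarTower P P' M := .of_algebraMap_smul fun _ _ ↦ rfl
  have : Module.FinitePresentation P M := h
  change Module.FinitePresentation P' M
  classical
  let q : P' ⊗[P] M →ₗ[P'] M := LinearMap.liftBaseChange P' LinearMap.id
  have hq : ∀ (r : P') (m : M), q (r ⊗ₜ m) = r • m := fun r m ↦ by simp [q]
  have hsurj : Function.Surjective q := fun m ↦ ⟨1 ⊗ₜ m, by rw [hq, one_smul]⟩
  obtain ⟨s, hs⟩ := (inferInstance : Algebra.FiniteType P P').out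
  obtain ⟨t, ht⟩ := Module.Finite.fg_top (R := P) (M := M)
  let N : Submodule P' (P' ⊗[P] M) := Submodule.span P'
    ((s ×ˢ t).image fun x ↦ x.1 ⊗ₜ x.2 - 1 ⊗ₜ (x.1 • x.2) : Finset (P' ⊗[P] M))
  refine Module.finitePresentation_of_surjective q hsurj ?_
  suffices hN : LinearMap.ker q = N by rw [hN]; exact Submodule.fg_span (Finset.finite_toSet _)
  refine le_antisymm ?_ (Submodule.span_le.mpr ?_)
  · have key : ∀ (r : P') (m : M), r ⊗ₜ m - 1 ⊗ₜ (r • m) ∈ N := by
      intro r
      have hr : r ∈ Algebra.adjoin P (s : Set P') := hs ▸ Algebra.mem_top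
      induction hr using Algebra.adjoin_induction with
      | mem r hr =>
        intro m
        have hm : m ∈ Submodule.span P (t : Set M) := ht ▸ Submodule.mem_top
        induction hm using Submodule.span_induction with
        | mem m hm =>
          exact Submodule.subset_span (Finset.mem_coe.mpr
            (Finset.mem_image.mpr ⟨(r, m), Finset.mem_product.mpr ⟨hr, hm⟩, rfl⟩))
        | zero => simp
        | add x y _ _ hx hy =>
          convert N.add_mem hx hy using 1
          rw [smul_add, tmul_add, tmul_add]; abel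
        | smul a x _ hx =>
          convert N.smul_mem (algebraMap P P' a) hx using 1
          rw [smul_comm r a, tmul_smul, tmul_smul, algebraMap_smul, smul_sub]
      | algebraMap a =>
        intro m
        rw [algebraMap_smul, Algebra.algebraMap_eq_smul_one, smul_tmul, sub_self]
        exact N.zero_mem
      | add x y _ _ hx hy =>
        intro m
        convert N.add_mem (hx m) (hy m) using 1
        rw [add_tmul, add_smul, tmul_add]; abel
      | mul x y _ _ hx hy =>
        intro m
        convert N.add_mem (N.smul_mem x (hy m)) (hx (y • m)) using 1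
        rw [smul_sub, smul_tmul', smul_tmul', smul_eq_mul, smul_eq_mul, mul_one, mul_smul]
        abel
    intro v hv
    suffices hv' : v - 1 ⊗ₜ q v ∈ N by simpa [LinearMap.mem_ker.mp hv] using hv'
    clear hv
    induction v using TensorProduct.induction_on with
    | zero => simp
    | tmul r m => rw [hq]; exact key r m
    | add x y hx hy =>
      convert N.add_mem hx hy using 1
      rw [map_add, tmul_add]; abel
  · intro x hx
    obtain ⟨y, -, rfl⟩ := Finset.mem_image.mp (Finset.mem_coe.mp hx)
    simp [hq]

/-- Finite presentation goes down along finite and finitely presented algebras. -/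
lemma FPOn.comp (f : P →+* P') (g : P' →+* A) (hfin : f.Finite) (hfp : f.FinitePresentation)
    (h : FPOn g M) : FPOn (g.comp f) M := by
  algebraize [f, g, g.comp f]
  let := Module.compHom M g
  let := Module.compHom M (g.comp f)
  have : IsScalarTower P P' M := .of_algebraMap_smul fun _ _ ↦ rfl
  have : Module.FinitePresentation P' M := h
  have := Module.FinitePresentation.of_finite_of_finitePresentation P P'
  exact Module.FinitePresentation.trans P M P'

lemma fpOn_comp_iff (f : P →+* P') (g : P' →+* A) (hf : Function.Surjective f)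
    (hker : (RingHom.ker f).FG) : FPOn (g.comp f) M ↔ FPOn g M :=
  ⟨.of_comp f g (RingHom.FiniteType.of_surjective f hf),
    .comp f g (RingHom.Finite.of_surjective f hf)
      (RingHom.FinitePresentation.of_surjective f hf hker)⟩

end Basic

section Indep

variable {R A : Type u} [CommRing R] [CommRing A] [Algebra R A]
  {M : Type u} [AddCommGroup M] [Module A M]

lemma fpOn_mvPolynomial_iff {n k : ℕ} (α : MvPolynomial (Fin n) R →ₐ[R] A)
    (β : MvPolynomial (Fin k) R →ₐ[R] A) (hα : Function.Surjective α)
    (hβ : Function.Surjective β) :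
    FPOn α.toRingHom M ↔ FPOn β.toRingHom M := by
  let T := MvPolynomial (Fin n) R ⊗[R] MvPolynomial (Fin k) R
  let ℓ : MvPolynomial (Fin k) R →ₐ[R] MvPolynomial (Fin n) R :=
    MvPolynomial.aeval fun i ↦ Function.surjInv hα (β (.X i))
  let ℓ' : MvPolynomial (Fin n) R →ₐ[R] MvPolynomial (Fin k) R :=
    MvPolynomial.aeval fun i ↦ Function.surjInv hβ (α (.X i))
  have hℓ : α.comp ℓ = β := MvPolynomial.algHom_ext fun i ↦ by
    simp [ℓ, Function.surjInv_eq hα]
  have hℓ' : β.comp ℓ' = α := MvPolynomial.algHom_ext fun i ↦ by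
    simp [ℓ', Function.surjInv_eq hβ]
  let e : T →ₐ[R] MvPolynomial (Fin n) R := Algebra.TensorProduct.productMap (AlgHom.id R _) ℓ
  let e' : T →ₐ[R] MvPolynomial (Fin k) R := Algebra.TensorProduct.productMap ℓ' (AlgHom.id R _)
  have he : Function.Surjective e := fun x ↦
    ⟨x ⊗ₜ 1, Algebra.TensorProduct.productMap_left_apply (AlgHom.id R _) ℓ x⟩
  have he' : Function.Surjective e' := fun x ↦
    ⟨1 ⊗ₜ x, Algebra.TensorProduct.productMap_right_apply ℓ' (AlgHom.id R _) x⟩
  have hfpT : Algebra.FinitePresentation R T :=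
    Algebra.FinitePresentation.trans R (MvPolynomial (Fin n) R) T
  have heq : α.comp e = β.comp e' := by
    refine Algebra.TensorProduct.ext (AlgHom.ext fun x ↦ ?_) (AlgHom.ext fun x ↦ ?_)
    · simpa [e, e'] using (congr($hℓ' x)).symm
    · simpa [e, e'] using congr($hℓ x)
  calc FPOn α.toRingHom M
      ↔ FPOn (α.toRingHom.comp e.toRingHom) M :=
        (fpOn_comp_iff e.toRingHom α.toRingHom he
          (Algebra.FinitePresentation.ker_fG_of_surjective e he)).symm
    _ ↔ FPOn (β.toRingHom.comp e'.toRingHom) M := by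
        change FPOn (α.comp e).toRingHom M ↔ FPOn (β.comp e').toRingHom M
        rw [heq]
    _ ↔ FPOn β.toRingHom M :=
        fpOn_comp_iff e'.toRingHom β.toRingHom he'
          (Algebra.FinitePresentation.ker_fG_of_surjective e' he')

/-- The test for relative finite presentation can be made on any finitely presented cover. -/
theorem rel_iff {P : Type u} [CommRing P] [Algebra R P] [Algebra.FinitePresentation R P]
    (α : P →ₐ[R] A) (hα : Function.Surjective α) :
    FlatCA.RelFinitePresentation R A M ↔ FPOn α.toRingHom M := by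
  obtain ⟨n, p, hp, hpker⟩ := ‹Algebra.FinitePresentation R P›.out
  have key : FPOn α.toRingHom M ↔ FPOn (α.comp p).toRingHom M :=
    (fpOn_comp_iff p.toRingHom α.toRingHom hp hpker).symm
  rw [key]
  constructor
  · rintro ⟨k, φ, hφ, h⟩
    exact (fpOn_mvPolynomial_iff φ (α.comp p) hφ (hα.comp hp)).mp h
  · exact fun h ↦ ⟨n, α.comp p, hα.comp hp, h⟩

lemma exists_mvPolynomial_surjective [Algebra.FiniteType R A] :
    ∃ (n : ℕ) (φ : MvPolynomial (Fin n) R →ₐ[R] A), Function.Surjective φ :=
  Algebra.FiniteType.iff_quotient_mvPolynomial''.mp inferInstance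

lemma finiteType_of_rel (h : FlatCA.RelFinitePresentation R A M) : Algebra.FiniteType R A := by
  obtain ⟨n, φ, hφ, -⟩ := h
  exact Algebra.FiniteType.of_surjective φ hφ

lemma finite_of_rel (h : FlatCA.RelFinitePresentation R A M) : Module.Finite A M := by
  obtain ⟨n, φ, hφ, h⟩ := h
  exact FPOn.finite (φ := φ.toRingHom) h

lemma rel_of_subsingleton [Algebra.FiniteType R A] [Subsingleton M] :
    FlatCA.RelFinitePresentation R A M := by
  obtain ⟨n, φ, hφ⟩ := exists_mvPolynomial_surjective (R := R) (A := A)
  exact ⟨n, φ, hφ, FPOn.of_subsingleton φ.toRingHom⟩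

lemma rel_of_linearEquiv {N : Type u} [AddCommGroup N] [Module A N] (e : M ≃ₗ[A] N)
    (h : FlatCA.RelFinitePresentation R A M) : FlatCA.RelFinitePresentation R A N := by
  obtain ⟨n, φ, hφ, h⟩ := h
  exact ⟨n, φ, hφ, FPOn.of_linearEquiv e h⟩

lemma rel_of_addEquiv {A' : Type u} [CommRing A'] [Algebra R A'] {M' : Type u} [AddCommGroup M']
    [Module A' M'] (e : A ≃ₐ[R] A') (l : M ≃+ M') (hl : ∀ (a : A) (m : M), l (a • m) = e a • l m)
    (h : FlatCA.RelFinitePresentation R A M) : FlatCA.RelFinitePresentation R A' M' := by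
  obtain ⟨n, φ, hφ, h⟩ := h
  exact ⟨n, e.toAlgHom.comp φ, e.surjective.comp hφ,
    FPOn.of_addEquiv (φ := φ.toRingHom) l (fun p m ↦ hl (φ p) m) h⟩

end Indep

section Change

variable {R R' A B : Type u} [CommRing R] [CommRing R'] [CommRing A] [CommRing B] [Algebra R A]
  [Algebra R B] {M : Type u} [AddCommGroup M]

/-- Finite extensions of the total ring. -/
theorem rel_finite_iff [Algebra A B] [IsScalarTower R A B] [Algebra.FiniteType R A]
    [Module.Finite A B] [Module B M] [Module A M] [IsScalarTower A B M] :
    FlatCA.RelFinitePresentation R A M ↔ FlatCA.RelFinitePresentation R B M := by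
  obtain ⟨n, α, hα⟩ := exists_mvPolynomial_surjective (R := R) (A := A)
  let P := MvPolynomial (Fin n) R
  letI : Algebra P B := ((algebraMap A B).comp α.toRingHom).toAlgebra
  haveI : IsScalarTower R P B := .of_algebraMap_eq fun r ↦
    show algebraMap R B r = algebraMap A B (α (algebraMap R P r)) by
      rw [α.commutes, ← IsScalarTower.algebraMap_apply R A B]
  have hfinB : Module.Finite P B :=
    RingHom.Finite.comp (RingHom.finite_algebraMap.mpr inferInstance)
      (RingHom.Finite.of_surjective α.toRingHom hα)
  obtain ⟨T, _, _, _, _, _, f, hf⟩ := Module.Finite.exists_free_surjective P B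
  letI : Algebra R T := Algebra.compHom T (algebraMap R P)
  haveI : IsScalarTower R P T := .of_algebraMap_eq fun _ ↦ rfl
  have : Algebra.FinitePresentation R T := Algebra.FinitePresentation.trans R P T
  rw [rel_iff α hα, rel_iff (f.restrictScalars R) (by exact hf)]
  have e1 : FPOn α.toRingHom M ↔ FPOn (algebraMap P B) M := by
    constructor <;> refine FPOn.of_addEquiv (AddEquiv.refl M) fun p m ↦ ?_
    · exact (algebraMap_smul B (α p) m).symm
    · exact algebraMap_smul B (α p) m
  rw [e1, ← f.comp_algebraMap]
  exact ⟨.of_comp _ _ (RingHom.finiteType_algebraMap.mpr inferInstance),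
    .comp _ _ (RingHom.finite_algebraMap.mpr inferInstance)
      (RingHom.finitePresentation_algebraMap.mpr inferInstance)⟩

/-- Finitely presented changes of base go down. -/
theorem rel_trans [Algebra A B] [IsScalarTower R A B] [Module B M]
    [Algebra.FinitePresentation R A] (h : FlatCA.RelFinitePresentation A B M) :
    FlatCA.RelFinitePresentation R B M := by
  obtain ⟨n, φ, hφ, h⟩ := h
  have : Algebra.FinitePresentation R (MvPolynomial (Fin n) A) :=
    Algebra.FinitePresentation.trans R A _
  exact (rel_iff (φ.restrictScalars R) hφ).mpr h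

/-- Going up along a change of base of finite type. -/
theorem rel_up [Algebra R R'] [Algebra R' B] [IsScalarTower R R' B] [Algebra.FiniteType R R']
    [Module B M] (h : FlatCA.RelFinitePresentation R B M) :
    FlatCA.RelFinitePresentation R' B M := by
  obtain ⟨n, φ, hφ, h⟩ := h
  let φ' : MvPolynomial (Fin n) R' →ₐ[R'] B := MvPolynomial.aeval fun i ↦ φ (.X i)
  let f : MvPolynomial (Fin n) R →+* MvPolynomial (Fin n) R' :=
    MvPolynomial.map (algebraMap R R')
  have hcomp : φ'.toRingHom.comp f = φ.toRingHom := by
    refine MvPolynomial.ringHom_ext (fun r ↦ ?_) fun i ↦ ?_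
    · simp [φ', f, ← IsScalarTower.algebraMap_apply R R' B]
    · simp [φ', f]
  refine ⟨n, φ', fun b ↦ ?_, FPOn.of_comp f φ'.toRingHom ?_ (by rw [hcomp]; exact h)⟩
  · obtain ⟨p, rfl⟩ := hφ b
    exact ⟨f p, congr($hcomp p)⟩
  · refine RingHom.FiniteType.of_comp_finiteType (f := MvPolynomial.C) ?_
    have : f.comp MvPolynomial.C = (MvPolynomial.C : R' →+* _).comp (algebraMap R R') :=
      RingHom.ext fun r ↦ by simp [f]
    rw [this]
    exact ((RingHom.finiteType_algebraMap (A := R') (B := MvPolynomial (Fin n) R')).mpr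
      inferInstance).comp (RingHom.finiteType_algebraMap.mpr ‹_›)

end Change

section Tensor

variable {P A T A' M : Type u} [CommRing P] [CommRing A] [CommRing T] [CommRing A']
  [AddCommGroup M] [Module A M] [Algebra A A']

/-- Base change of a presentation. -/
theorem fpOn_tensor (α : P →+* A) (hα : Function.Surjective α) (ι : P →+* T) (θ : T →+* A')
    (hθ : Function.Surjective θ) (hc : θ.comp ι = (algebraMap A A').comp α) (J : Ideal T)
    (hJ : J.FG) (hker : RingHom.ker θ ≤ (RingHom.ker α).map ι ⊔ J) (hJθ : J ≤ RingHom.ker θ)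
    (h : FPOn α M) : FPOn θ (A' ⊗[A] M) := by
  classical
  algebraize [α, ι, θ]
  letI : Algebra P A' := ((algebraMap A A').comp α).toAlgebra
  haveI : IsScalarTower P A A' := .of_algebraMap_eq fun _ ↦ rfl
  haveI : IsScalarTower P T A' := .of_algebraMap_eq fun p ↦ (congr($hc p)).symm
  letI := Module.compHom M α
  haveI : IsScalarTower P A M := .of_algebraMap_smul fun _ _ ↦ rfl
  haveI : Module.FinitePresentation P M := h
  have hc' : ∀ p, θ (ι p) = algebraMap A A' (α p) := fun p ↦ congr($hc p)
  change FPOn (algebraMap T A') _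
  rw [fpOn_iff]
  let i : M →ₗ[P] A' ⊗[A] M := (TensorProduct.mk A A' M 1).restrictScalars P
  let q : T ⊗[P] M →ₗ[T] A' ⊗[A] M := i.liftBaseChange T
  have hq : ∀ (t : T) (m : M), q (t ⊗ₜ m) = θ t ⊗ₜ m := fun t m ↦ by
    simp only [q, i, LinearMap.liftBaseChange_tmul, LinearMap.coe_restrictScalars, mk_apply,
      smul_tmul']
    rw [Algebra.smul_def, mul_one]
    rfl
  let W : Submodule T (T ⊗[P] M) := J • (⊤ : Submodule T (T ⊗[P] M))
  have hmem : ∀ t ∈ RingHom.ker θ, ∀ m : M, (t ⊗ₜ[P] m) ∈ W := by
    intro t ht m
    rw [show RingHom.ker θ = RingHom.ker θ from rfl] at ht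
    obtain ⟨a, ha, b, hb, rfl⟩ := Submodule.mem_sup.mp (hker ht)
    rw [add_tmul]
    refine W.add_mem ?_ ?_
    · clear ht
      induction ha using Submodule.span_induction generalizing m with
      | mem x hx =>
        obtain ⟨p, hp, rfl⟩ := hx
        rw [show ι p = p • (1 : T) from (Algebra.algebraMap_eq_smul_one p), smul_tmul,
          show p • m = α p • m from rfl, RingHom.mem_ker.mp hp, zero_smul, tmul_zero]
        exact W.zero_mem
      | zero => simp
      | add x y _ _ hx hy => rw [add_tmul]; exact W.add_mem (hx m) (hy m)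
      | smul u x _ hx =>
        rw [← smul_tmul']
        exact W.smul_mem u (hx m)
    · have : b ⊗ₜ[P] m = b • ((1 : T) ⊗ₜ[P] m) := by rw [smul_tmul', smul_eq_mul, mul_one]
      rw [this]
      exact Submodule.smul_mem_smul hb Submodule.mem_top
  let g : A' →+ M →+ (T ⊗[P] M) ⧸ W :=
    AddMonoidHom.mk' (fun a ↦ AddMonoidHom.mk' (fun m ↦ W.mkQ (Function.surjInv hθ a ⊗ₜ m))
      fun x y ↦ by rw [tmul_add, map_add]) fun a b ↦ AddMonoidHom.ext fun m ↦ by
      simp only [AddMonoidHom.mk'_apply, AddMonoidHom.add_apply, ← map_add, ← add_tmul]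
      refine (Submodule.Quotient.eq W).mpr ?_
      rw [← sub_tmul]
      exact hmem _ (by simp [RingHom.mem_ker, Function.surjInv_eq hθ]) m
  let s : A' ⊗[A] M →+ (T ⊗[P] M) ⧸ W := TensorProduct.liftAddHom g fun a b m ↦ by
    obtain ⟨p, rfl⟩ := hα a
    simp only [g, AddMonoidHom.mk'_apply]
    rw [show α p • m = p • m from rfl, tmul_smul, smul_tmul']
    refine (Submodule.Quotient.eq W).mpr ?_
    rw [← sub_tmul]
    refine hmem _ ?_ m
    simp [RingHom.mem_ker, Function.surjInv_eq hθ, Algebra.smul_def, hc',
      RingHom.algebraMap_toAlgebra]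
  have hs : ∀ x, s (q x) = W.mkQ x := by
    intro x
    induction x using TensorProduct.induction_on with
    | zero => simp
    | tmul t m =>
      rw [hq]
      simp only [s, g, TensorProduct.liftAddHom_tmul, AddMonoidHom.mk'_apply]
      refine (Submodule.Quotient.eq W).mpr ?_
      rw [← sub_tmul]
      exact hmem _ (by simp [RingHom.mem_ker, Function.surjInv_eq hθ]) m
    | add x y hx hy => simp [hx, hy]
  have hsurj : Function.Surjective q := by
    intro y
    induction y using TensorProduct.induction_on with
    | zero => exact ⟨0, map_zero _⟩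
    | tmul a m =>
      obtain ⟨t, rfl⟩ := hθ a
      exact ⟨t ⊗ₜ m, hq t m⟩
    | add x y hx hy =>
      obtain ⟨a, rfl⟩ := hx
      obtain ⟨b, rfl⟩ := hy
      exact ⟨a + b, map_add _ _ _⟩
  have hkerq : LinearMap.ker q = W := by
    refine le_antisymm (fun x hx ↦ ?_) (Submodule.smul_le.mpr fun j hj x _ ↦ ?_)
    · have := hs x
      rw [LinearMap.mem_ker.mp hx, map_zero] at this
      exact (Submodule.Quotient.mk_eq_zero W).mp this.symm
    · have h0 : θ j = 0 := RingHom.mem_ker.mp (hJθ hj)
      rw [LinearMap.mem_ker, map_smul, ← algebraMap_smul A' j]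
      exact (congrArg (· • q x) h0).trans (zero_smul A' (q x))
  refine Module.finitePresentation_of_surjective q hsurj ?_
  rw [hkerq]
  exact Submodule.FG.smul hJ Module.Finite.fg_top

end Tensor

section BaseChange

variable {R A : Type u} [CommRing R] [CommRing A] [Algebra R A]
  {M : Type u} [AddCommGroup M] [Module A M]

/-- Finitely presented changes of the total ring. -/
theorem rel_tensor_fp {A' : Type u} [CommRing A'] [Algebra A A'] [Algebra R A']
    [IsScalarTower R A A'] [Algebra.FinitePresentation A A']
    (h : FlatCA.RelFinitePresentation R A M) :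
    FlatCA.RelFinitePresentation R A' (A' ⊗[A] M) := by
  obtain ⟨n, α, hα, h⟩ := h
  obtain ⟨m, ψ, hψ, hψker⟩ := ‹Algebra.FinitePresentation A A'›.out
  let T := MvPolynomial (Fin m) (MvPolynomial (Fin n) R)
  let μ : T →+* MvPolynomial (Fin m) A := MvPolynomial.map α.toRingHom
  have hμ : Function.Surjective μ := MvPolynomial.map_surjective _ hα
  let θ : T →ₐ[R] A' :=
    { ψ.toRingHom.comp μ with
      commutes' := fun r ↦ by
        change ψ (μ (algebraMap R T r)) = _
        refine ((congrArg ψ ((MvPolynomial.map_C _ _).trans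
          (congrArg MvPolynomial.C (α.commutes r)))).trans (ψ.commutes _)).trans ?_
        rw [← IsScalarTower.algebraMap_apply] }
  have : Algebra.FinitePresentation R T :=
    Algebra.FinitePresentation.trans R (MvPolynomial (Fin n) R) T
  refine (rel_iff θ (hψ.comp hμ)).mpr ?_
  obtain ⟨S, hS⟩ := hψker
  classical
  refine fpOn_tensor α.toRingHom hα MvPolynomial.C θ.toRingHom (hψ.comp hμ)
    (RingHom.ext fun p ↦ ?_) (Ideal.span (S.image (Function.surjInv hμ) : Finset T))
    (Submodule.fg_span (Finset.finite_toSet _)) ?_ ?_ h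
  · exact (congrArg ψ (MvPolynomial.map_C _ p)).trans (ψ.commutes _)
  · intro t ht
    have hmap : (Ideal.span (S.image (Function.surjInv hμ) : Set T)).map μ
        = RingHom.ker ψ.toRingHom := by
      rw [Ideal.map_span, ← hS, Finset.coe_image, ← Set.image_comp,
        show (⇑μ ∘ Function.surjInv hμ) = id from funext (Function.surjInv_eq hμ), Set.image_id]
    obtain ⟨j, hj, hjt⟩ := (Ideal.mem_map_iff_of_surjective μ hμ).mp (hmap.ge (show μ t ∈ _ from ht))
    rw [show t = (t - j) + j by ring]
    refine Ideal.add_mem _ (Ideal.mem_sup_left ?_) (Ideal.mem_sup_right (by simpa using hj))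
    rw [← MvPolynomial.ker_map]
    exact RingHom.mem_ker.mpr (by rw [map_sub]; exact sub_eq_zero.mpr hjt.symm)
  · rw [Ideal.span_le]
    intro x hx
    obtain ⟨y, hy, rfl⟩ := Finset.mem_image.mp (Finset.mem_coe.mp hx)
    change ψ (μ _) = 0
    rw [Function.surjInv_eq hμ]
    exact (hS.le (Submodule.subset_span hy) :)

/-- Arbitrary base change. -/
theorem rel_baseChange {R' A' : Type u} [CommRing R'] [CommRing A'] [Algebra R R'] [Algebra A A']
    [Algebra R' A'] [Algebra R A'] [IsScalarTower R A A'] [IsScalarTower R R' A']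
    [Algebra.IsPushout R A R' A'] (h : FlatCA.RelFinitePresentation R A M) :
    FlatCA.RelFinitePresentation R' A' (A' ⊗[A] M) := by
  obtain ⟨n, α, hα, h⟩ := h
  haveI : Algebra.IsPushout R R' A A' := Algebra.IsPushout.symm inferInstance
  let E : R' ⊗[R] A ≃ₐ[R'] A' := Algebra.IsPushout.equiv R R' A A'
  let μ : (R' ⊗[R] MvPolynomial (Fin n) R) →ₐ[R'] R' ⊗[R] A := Algebra.TensorProduct.map (AlgHom.id R' R') α
  have hμ : Function.Surjective μ := fun y ↦ by
    induction y using TensorProduct.induction_on with
    | zero => exact ⟨0, map_zero _⟩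
    | tmul r a =>
      obtain ⟨p, rfl⟩ := hα a
      exact ⟨r ⊗ₜ p, Algebra.TensorProduct.map_tmul _ _ r p⟩
    | add x y hx hy =>
      obtain ⟨a, rfl⟩ := hx
      obtain ⟨b, rfl⟩ := hy
      exact ⟨a + b, map_add _ _ _⟩
  let θ : (R' ⊗[R] MvPolynomial (Fin n) R) →ₐ[R'] A' := E.toAlgHom.comp μ
  have hθ : Function.Surjective θ := E.surjective.comp hμ
  refine (rel_iff θ hθ).mpr ?_
  refine fpOn_tensor α.toRingHom hα Algebra.TensorProduct.includeRight.toRingHom θ.toRingHom hθ
    (RingHom.ext fun p ↦ ?_) ⊥ Submodule.fg_bot ?_ bot_le h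
  · simp [θ, μ, E, Algebra.IsPushout.equiv_tmul]
  · intro t ht
    refine Ideal.mem_sup_left ?_
    have hμt : μ t = 0 := E.injective ((RingHom.mem_ker.mp ht).trans (map_zero E).symm)
    have hcoe : ∀ x : (R' ⊗[R] MvPolynomial (Fin n) R), μ x = Algebra.TensorProduct.map (AlgHom.id R R') α x := fun x ↦ by
      induction x using TensorProduct.induction_on with
      | zero => simp only [map_zero]
      | tmul a b =>
        exact (Algebra.TensorProduct.map_tmul _ _ a b).trans
          (Algebra.TensorProduct.map_tmul (AlgHom.id R R') α a b).symm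
      | add x y hx hy => simp only [map_add, hx, hy]
    rw [hcoe] at hμt
    exact (Algebra.TensorProduct.lTensor_ker (A := R') α hα).le (RingHom.mem_ker.mpr hμt)

/-- A localized module, restricted along a ring map. -/
lemma isLocalizedModule_restrict {P : Type u} [CommRing P] [Algebra P A] {M' : Type u}
    [AddCommGroup M'] [Module A M'] [Module P M] [Module P M'] [IsScalarTower P A M]
    [IsScalarTower P A M'] (F : P) (l : M →ₗ[A] M')
    [IsLocalizedModule (Submonoid.powers (algebraMap P A F)) l] :
    IsLocalizedModule (Submonoid.powers F) (l.restrictScalars P) where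
  map_units := fun ⟨x, k, hk⟩ ↦ by
    have hu := IsLocalizedModule.map_units l
      (⟨algebraMap P A x, k, by subst hk; simp⟩ : Submonoid.powers (algebraMap P A F))
    rw [Module.End.isUnit_iff] at hu ⊢
    convert hu using 1
    ext m
    exact (algebraMap_smul A x m).symm
  surj := fun y ↦ by
    obtain ⟨⟨m, ⟨_, k, rfl⟩⟩, hm⟩ := IsLocalizedModule.surj (Submonoid.powers (algebraMap P A F)) l y
    refine ⟨⟨m, ⟨F ^ k, k, rfl⟩⟩, ?_⟩
    simpa [Submonoid.smul_def, ← map_pow, algebraMap_smul] using hm
  exists_of_eq := fun {x y} hxy ↦ by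
    obtain ⟨⟨_, k, rfl⟩, hc⟩ := IsLocalizedModule.exists_of_eq
      (S := Submonoid.powers (algebraMap P A F)) (f := l) hxy
    refine ⟨⟨F ^ k, k, rfl⟩, ?_⟩
    simpa [Submonoid.smul_def, ← map_pow, algebraMap_smul] using hc

lemma away_map_eq {P : Type u} [CommRing P] [Algebra R P] (f : P →ₐ[R] A) (F x : P) :
    IsLocalization.Away.mapₐ (Localization.Away F) (Localization.Away (f F)) f F
      (algebraMap P (Localization.Away F) x) = algebraMap A (Localization.Away (f F)) (f x) :=
  IsLocalization.map_eq (M := Submonoid.powers F) (S := Localization.Away F)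
    (T := Submonoid.powers (f F)) (Q := Localization.Away (f F))
    (show Submonoid.powers F ≤ (Submonoid.powers (f F)).comap f.toRingHom by
      rintro _ ⟨k, rfl⟩
      exact ⟨k, (map_pow f F k).symm⟩) x

/-- Relative finite presentation is local on the total ring. -/
theorem rel_of_span [Algebra.FiniteType R A] (s : Set A) (hs : Ideal.span s = ⊤)
    (h : ∀ g ∈ s, FlatCA.RelFinitePresentation R (Localization.Away g)
      (LocalizedModule (Submonoid.powers g) M)) :
    FlatCA.RelFinitePresentation R A M := by
  obtain ⟨n, α, hα⟩ := exists_mvPolynomial_surjective (R := R) (A := A)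
  refine ⟨n, α, hα, ?_⟩
  let P := MvPolynomial (Fin n) R
  algebraize [α.toRingHom]
  haveI : IsScalarTower R P A := .of_algebraMap_eq fun r ↦ (α.commutes r).symm
  letI := Module.compHom M α.toRingHom
  haveI : IsScalarTower P A M := .of_algebraMap_smul fun _ _ ↦ rfl
  change Module.FinitePresentation P M
  let s' : Set P := {F | α F ∈ s ∨ α F = 0}
  have hs' : Ideal.span s' = ⊤ := by
    have h1 : RingHom.ker α.toRingHom ≤ Ideal.span s' :=
      fun x hx ↦ Ideal.subset_span (Or.inr hx)
    have h2 : (Ideal.span s').map α.toRingHom = ⊤ := by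
      rw [eq_top_iff, ← hs, Ideal.span_le]
      intro a ha
      obtain ⟨F, rfl⟩ := hα a
      exact Ideal.mem_map_of_mem _ (Ideal.subset_span (Or.inl ha))
    have := Ideal.comap_map_of_surjective α.toRingHom hα (Ideal.span s')
    rw [h2, Ideal.comap_top, ← RingHom.ker_eq_comap_bot, sup_eq_left.mpr h1] at this
    exact this.symm
  have hrel : ∀ F ∈ s', FlatCA.RelFinitePresentation R (Localization.Away (α F))
      (LocalizedModule (Submonoid.powers (α F)) M) := by
    intro F hF
    rcases hF with hF | hF
    · exact h _ hF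
    · haveI : Algebra.FiniteType R (Localization.Away (α F)) :=
        Algebra.FiniteType.trans (S := A) ‹_› inferInstance
      haveI : Subsingleton (LocalizedModule (Submonoid.powers (α F)) M) :=
        LocalizedModule.subsingleton (hF ▸ Submonoid.mem_powers (α F))
      exact rel_of_subsingleton
  let φ : ∀ F : s', Localization.Away F.1 →ₐ[R] Localization.Away (α F.1) := fun F ↦
    IsLocalization.Away.mapₐ (Localization.Away F.1) (Localization.Away (α F.1)) α F.1
  have hφ : ∀ F, Function.Surjective (φ F) := fun F x ↦ by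
    obtain ⟨k, a, hk⟩ := IsLocalization.Away.surj (α F.1) x
    obtain ⟨p, rfl⟩ := hα a
    refine ⟨IsLocalization.Away.invSelf F.1 ^ k * algebraMap P _ p, ?_⟩
    have hu := IsLocalization.Away.mul_invSelf (S := Localization.Away F.1) F.1
    apply ((IsLocalization.Away.algebraMap_isUnit (S := Localization.Away (α F.1)) (α F.1)).pow k).mul_left_injective
    change φ F _ * algebraMap A _ (α F.1) ^ k = x * algebraMap A _ (α F.1) ^ k
    rw [hk]
    have h1 : ∀ q : P, φ F (algebraMap P (Localization.Away F.1) q) =
        algebraMap A (Localization.Away (α F.1)) (α q) := fun q ↦ away_map_eq α F.1 q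
    rw [← h1 F.1, ← h1 p, ← map_pow, ← map_mul, mul_right_comm, ← mul_pow,
      mul_comm (IsLocalization.Away.invSelf (S := Localization.Away F.1) F.1), hu, one_pow, one_mul]
  letI : ∀ F : s', Module (Localization.Away F.1) (LocalizedModule (Submonoid.powers (α F.1)) M) :=
    fun F ↦ Module.compHom _ (φ F).toRingHom
  haveI : ∀ F : s', IsScalarTower P A (LocalizedModule (Submonoid.powers (α F.1)) M) :=
    fun F ↦ inferInstance
  haveI : ∀ F : s', IsScalarTower P (Localization.Away F.1)
      (LocalizedModule (Submonoid.powers (α F.1)) M) := fun F ↦ .of_algebraMap_smul fun p m ↦ by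
    change φ F (algebraMap P (Localization.Away F.1) p) • m = p • m
    rw [show φ F (algebraMap P (Localization.Away F.1) p)
        = algebraMap A (Localization.Away (α F.1)) (α p) from away_map_eq α F.1 p,
      algebraMap_smul]
    exact algebraMap_smul A p m
  haveI : ∀ F : s', IsLocalizedModule (Submonoid.powers F.1)
      ((LocalizedModule.mkLinearMap (Submonoid.powers (α F.1)) M).restrictScalars P) := fun F ↦ by
    haveI : IsLocalizedModule (Submonoid.powers (algebraMap P A F.1))
        (LocalizedModule.mkLinearMap (Submonoid.powers (α F.1)) M) :=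
      localizedModuleIsLocalizedModule _
    exact isLocalizedModule_restrict F.1 _
  refine Module.FinitePresentation.of_localizationSpan' s' hs'
    (Rₚ := fun F ↦ Localization.Away F.1)
    (fun F ↦ (LocalizedModule.mkLinearMap (Submonoid.powers (α F.1)) M).restrictScalars P)
    fun F ↦ ?_
  haveI : Algebra.FinitePresentation R (Localization.Away F.1) :=
    Algebra.FinitePresentation.trans R P _
  exact (rel_iff (φ F) (hφ F)).mp (hrel F.1 F.2)

/-- Transport to another localization away from an element. -/
theorem rel_localization_away {g : A} (h : FlatCA.RelFinitePresentation R A M) :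
    FlatCA.RelFinitePresentation R (Localization.Away g) (LocalizedModule (Submonoid.powers g) M) :=
  rel_of_linearEquiv
    ((IsLocalizedModule.isBaseChange (Submonoid.powers g) (Localization.Away g)
      (LocalizedModule.mkLinearMap (Submonoid.powers g) M)).equiv)
    (rel_tensor_fp (A' := Localization.Away g) h)

/-- Relative finite presentation is local on the total ring, for any models of the localizations. -/
theorem rel_of_span' [Algebra.FiniteType R A] (s : Set A) (hs : Ideal.span s = ⊤)
    (Aₚ : s → Type u) [∀ g, CommRing (Aₚ g)] [∀ g, Algebra A (Aₚ g)] [∀ g, Algebra R (Aₚ g)]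
    [∀ g, IsScalarTower R A (Aₚ g)] [∀ g : s, IsLocalization.Away g.1 (Aₚ g)]
    (Mₚ : s → Type u) [∀ g, AddCommGroup (Mₚ g)] [∀ g, Module A (Mₚ g)]
    [∀ g, Module (Aₚ g) (Mₚ g)] [∀ g, IsScalarTower A (Aₚ g) (Mₚ g)] (l : ∀ g, M →ₗ[A] Mₚ g)
    [∀ g : s, IsLocalizedModule (Submonoid.powers g.1) (l g)]
    (h : ∀ g, FlatCA.RelFinitePresentation R (Aₚ g) (Mₚ g)) :
    FlatCA.RelFinitePresentation R A M := by
  refine rel_of_span s hs fun g hg ↦ ?_
  obtain ⟨γ, rfl⟩ : ∃ γ : s, γ.1 = g := ⟨⟨g, hg⟩, rfl⟩
  let S := Submonoid.powers γ.1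
  let e : Aₚ γ ≃ₐ[A] Localization.Away γ.1 := IsLocalization.algEquiv S _ _
  let i : Mₚ γ ≃ₗ[A] LocalizedModule S M := (IsLocalizedModule.iso S (l γ)).symm
  letI : Module (Aₚ γ) (LocalizedModule S M) := Module.compHom _ e.toAlgHom.toRingHom
  haveI : IsScalarTower A (Aₚ γ) (LocalizedModule S M) := .of_algebraMap_smul fun a m ↦ by
    change e (algebraMap A _ a) • m = a • m
    rw [e.commutes, algebraMap_smul]
  exact rel_of_addEquiv (e.restrictScalars R) i.toAddEquiv
    (fun a m ↦ (i.extendScalarsOfIsLocalization S (Aₚ γ)).map_smul a m) (h γ)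

end BaseChange

section Exact

variable {R A : Type u} [CommRing R] [CommRing A] [Algebra R A]
  {M₁ M₂ M₃ : Type u} [AddCommGroup M₁] [AddCommGroup M₂] [AddCommGroup M₃]
  [Module A M₁] [Module A M₂] [Module A M₃] (f : M₁ →ₗ[A] M₂) (g : M₂ →ₗ[A] M₃)

theorem rel_of_exact_of_extremes (hf : Function.Injective f) (hfg : Function.Exact f g)
    (hg : Function.Surjective g) (h₁ : FlatCA.RelFinitePresentation R A M₁)
    (h₃ : FlatCA.RelFinitePresentation R A M₃) : FlatCA.RelFinitePresentation R A M₂ := by
  obtain ⟨n, α, hα, h₁⟩ := h₁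
  refine ⟨n, α, hα, ?_⟩
  have h₃' : FPOn α.toRingHom M₃ := (rel_iff α hα).mp h₃
  algebraize [α.toRingHom]
  letI := Module.compHom M₁ α.toRingHom
  letI := Module.compHom M₂ α.toRingHom
  letI := Module.compHom M₃ α.toRingHom
  haveI : IsScalarTower (MvPolynomial (Fin n) R) A M₁ := .of_algebraMap_smul fun _ _ ↦ rfl
  haveI : IsScalarTower (MvPolynomial (Fin n) R) A M₂ := .of_algebraMap_smul fun _ _ ↦ rfl
  haveI : IsScalarTower (MvPolynomial (Fin n) R) A M₃ := .of_algebraMap_smul fun _ _ ↦ rfl
  haveI : Module.FinitePresentation (MvPolynomial (Fin n) R) M₁ := h₁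
  haveI : Module.FinitePresentation (MvPolynomial (Fin n) R) M₃ := h₃'
  change Module.FinitePresentation (MvPolynomial (Fin n) R) M₂
  have hker : LinearMap.ker (g.restrictScalars (MvPolynomial (Fin n) R))
      = LinearMap.range (f.restrictScalars (MvPolynomial (Fin n) R)) := by
    ext x; exact hfg x
  haveI : Module.FinitePresentation (MvPolynomial (Fin n) R)
      (LinearMap.ker (g.restrictScalars (MvPolynomial (Fin n) R))) :=
    Module.FinitePresentation.of_equiv
      ((LinearEquiv.ofInjective (f.restrictScalars (MvPolynomial (Fin n) R)) hf).trans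
        (LinearEquiv.ofEq _ _ hker.symm))
  exact Module.finitePresentation_of_ker (g.restrictScalars (MvPolynomial (Fin n) R)) hg

theorem rel_of_exact_of_finite (hfg : Function.Exact f g) (hg : Function.Surjective g)
    [Module.Finite A M₁] (h₂ : FlatCA.RelFinitePresentation R A M₂) :
    FlatCA.RelFinitePresentation R A M₃ := by
  obtain ⟨n, α, hα, h₂⟩ := h₂
  refine ⟨n, α, hα, ?_⟩
  algebraize [α.toRingHom]
  letI := Module.compHom M₁ α.toRingHom
  letI := Module.compHom M₂ α.toRingHom
  letI := Module.compHom M₃ α.toRingHom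
  haveI : IsScalarTower (MvPolynomial (Fin n) R) A M₁ := .of_algebraMap_smul fun _ _ ↦ rfl
  haveI : IsScalarTower (MvPolynomial (Fin n) R) A M₂ := .of_algebraMap_smul fun _ _ ↦ rfl
  haveI : IsScalarTower (MvPolynomial (Fin n) R) A M₃ := .of_algebraMap_smul fun _ _ ↦ rfl
  haveI : Module.Finite (MvPolynomial (Fin n) R) A :=
    Module.Finite.of_surjective (Algebra.linearMap (MvPolynomial (Fin n) R) A) hα
  haveI : Module.Finite (MvPolynomial (Fin n) R) M₁ := Module.Finite.trans A M₁
  haveI : Module.FinitePresentation (MvPolynomial (Fin n) R) M₂ := h₂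
  change Module.FinitePresentation (MvPolynomial (Fin n) R) M₃
  refine Module.finitePresentation_of_surjective (g.restrictScalars (MvPolynomial (Fin n) R)) hg ?_
  have hker : LinearMap.ker (g.restrictScalars (MvPolynomial (Fin n) R))
      = LinearMap.range (f.restrictScalars (MvPolynomial (Fin n) R)) := by
    ext x; exact hfg x
  rw [hker]
  exact Submodule.fg_range _

end Exact

end Groth.Agent.RelFP
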