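import Mathlib.AlgebraicGeometry.Morphisms.Affine
import Mathlib.AlgebraicGeometry.Restrict
import Mathlib.AlgebraicGeometry.AffineScheme

/-!
# Affine charts of a fibre product
-/

set_option autoImplicit false

universe u

open CategoryTheory Limits AlgebraicGeometry

namespace Groth.Agent.RelFP

variable {X S X' S' : Scheme.{u}} {f : X ⟶ S} {g : S' ⟶ S} {g' : X' ⟶ X} {f' : X' ⟶ S'}

theorem isAffineOpen_chart (hc : IsPullback g' f' f g) {V : S.Opens} (hV : IsAffineOpen V)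
    {V' : S'.Opens} (hV' : IsAffineOpen V') {U : X.Opens} (hU : IsAffineOpen U)
    (hV'V : V' ≤ g ⁻¹ᵁ V) (hUV : U ≤ f ⁻¹ᵁ V) : IsAffineOpen (g' ⁻¹ᵁ U ⊓ f' ⁻¹ᵁ V') := by
  have : IsAffine U.toScheme := hU
  have : IsAffine V.toScheme := hV
  have : IsAffine V'.toScheme := hV'
  exact IsAffine.of_isPullback (Scheme.Hom.isPullback_resLE hc hV'V hUV rfl)

end Groth.Agent.RelFP
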